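import Mathlib.RingTheory.LocalRing.Module
import Mathlib.RingTheory.Kaehler.TensorProduct
import Mathlib.RingTheory.Discriminant
import Mathlib.RingTheory.Etale.Field
import Mathlib.RingTheory.Etale.Descent
import Mathlib.RingTheory.Smooth.Fiber
import Mathlib.FieldTheory.IsAlgClosed.AlgebraicClosure
import Mathlib.LinearAlgebra.Trace
import Mathlib.Algebra.Lie.TraceForm
import Mathlib.RingTheory.TensorProduct.Free
import Mathlib.RingTheory.Artinian.Module
import Mathlib.RingTheory.Finiteness.ModuleFinitePresentation

/-!
The trace form of a finite free algebra is bijective iff the algebra is etale.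
-/

set_option autoImplicit false

universe u v w

open TensorProduct

namespace Groth.Agent.TraceForm

variable {A : Type u} {B : Type v} [CommRing A] [CommRing B] [Algebra A B]

/-- Finite type algebras with formally unramified fibres are formally unramified. -/
theorem formallyUnramified_of_fibres {A : Type u} {B : Type v} [CommRing A] [CommRing B] [Algebra A B]
    [Algebra.FiniteType A B]
    (h : ∀ (p : Ideal A) [p.IsPrime], Algebra.FormallyUnramified p.ResidueField (p.ResidueField ⊗[A] B)) :
    Algebra.FormallyUnramified A B := by
  constructor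
  rw [← Module.support_eq_empty_iff (R := B), Set.eq_empty_iff_forall_notMem]
  intro q
  rw [Module.mem_support_iff_nontrivial_residueField_tensorProduct, not_nontrivial_iff_subsingleton]
  let p := q.asIdeal.under A
  haveI := h p
  let _ : Algebra B (p.ResidueField ⊗[A] B) := Algebra.TensorProduct.rightAlgebra
  haveI hzero : Subsingleton (p.ResidueField ⊗[A] Ω[B⁄A]) :=
    (KaehlerDifferential.tensorKaehlerEquivBase A p.ResidueField B (p.ResidueField ⊗[A] B)).subsingleton
  let inc : p.ResidueField →ₐ[A] q.asIdeal.ResidueField :=
    Ideal.ResidueField.mapₐ p q.asIdeal (Algebra.ofId A B) rfl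
  let T : p.ResidueField ⊗[A] Ω[B⁄A] →ₗ[A] q.asIdeal.ResidueField ⊗[B] Ω[B⁄A] :=
    (TensorProduct.mapOfCompatibleSMul B A A q.asIdeal.ResidueField Ω[B⁄A]) ∘ₗ
      TensorProduct.map inc.toLinearMap LinearMap.id
  have h1 : ∀ y : Ω[B⁄A], (1 : q.asIdeal.ResidueField) ⊗ₜ[B] y = 0 := fun y => by
    have h2 : T ((1 : p.ResidueField) ⊗ₜ y) = (1 : q.asIdeal.ResidueField) ⊗ₜ[B] y := by simp [T]
    rw [← h2, Subsingleton.elim ((1 : p.ResidueField) ⊗ₜ[A] y) 0, map_zero]
  refine subsingleton_of_forall_eq 0 fun z => ?_
  induction z using TensorProduct.induction_on with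
  | zero => rfl
  | add a b ha hb => rw [ha, hb, add_zero]
  | tmul c y =>
    rw [← mul_one c, ← smul_eq_mul, ← TensorProduct.smul_tmul', h1, smul_zero]

/-- A universe lift of a field. -/
@[reducible] noncomputable def uliftField (K : Type u) [Field K] : Field (ULift.{v} K) :=
  IsField.toField (MulEquiv.isField (Field.toIsField K) (ULift.ringEquiv (R := K)).toMulEquiv)

theorem toMatrix_traceForm {ι : Type w} [Fintype ι] [DecidableEq ι] (b : Module.Basis ι A B) :
    LinearMap.toMatrix b b.dualBasis (Algebra.traceForm A B) = Algebra.traceMatrix A b := by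
  ext i j
  rw [LinearMap.toMatrix_apply, b.dualBasis_repr, Algebra.traceMatrix_apply]
  exact (Algebra.traceForm_isSymm A).eq _ _

theorem bijective_iff_isUnit_discr {ι : Type w} [Fintype ι] [DecidableEq ι] (b : Module.Basis ι A B) :
    Function.Bijective (Algebra.traceForm A B) ↔ IsUnit (Algebra.discr A b) := by
  rw [Algebra.discr_def, ← toMatrix_traceForm b]
  constructor
  · intro h
    exact LinearEquiv.isUnit_det (LinearEquiv.ofBijective (Algebra.traceForm A B) h) b b.dualBasis
  · intro h
    exact (LinearEquiv.ofIsUnitDet h).bijective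

theorem discr_baseChange {ι : Type w} [Fintype ι] [DecidableEq ι] (b : Module.Basis ι A B)
    (L : Type*) [CommRing L] [Algebra A L] :
    Algebra.discr L (Algebra.TensorProduct.basis L b) = algebraMap A L (Algebra.discr A b) := by
  haveI := Module.Free.of_basis b
  haveI := Module.Finite.of_basis b
  rw [Algebra.discr_def, Algebra.discr_def, RingHom.map_det]
  congr 1
  ext i j
  rw [RingHom.mapMatrix_apply, Matrix.map_apply, Algebra.traceMatrix_apply, Algebra.traceMatrix_apply,
    Algebra.traceForm_apply, Algebra.traceForm_apply, Algebra.TensorProduct.basis_apply,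
    Algebra.TensorProduct.basis_apply, Algebra.TensorProduct.tmul_mul_tmul, one_mul,
    Algebra.trace_apply, Algebra.trace_apply, ← LinearMap.trace_baseChange (Algebra.lmul A B (b i * b j)) L]
  congr 1
  ext x
  simp

theorem trace_pi {L : Type*} [Field L] {P : Type*} [Fintype P] (f : P → L) :
    Algebra.trace L (P → L) f = ∑ i, f i := by
  classical
  rw [Algebra.trace_eq_matrix_trace (Pi.basisFun L P), Matrix.trace]
  refine Finset.sum_congr rfl fun i _ => ?_
  rw [Matrix.diag_apply, Algebra.leftMulMatrix_eq_repr_mul]
  simp

theorem injective_traceForm_of_etale {L : Type w} [Field L] [IsAlgClosed L] {D : Type w} [CommRing D]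
    [Algebra L D] [Algebra.Etale L D] : Function.Injective (Algebra.traceForm L D) := by
  classical
  haveI := Algebra.FormallyUnramified.finite_of_free L D
  haveI : IsArtinianRing D := isArtinian_of_tower L inferInstance
  haveI := Fintype.ofFinite (PrimeSpectrum D)
  let e := Algebra.FormallyEtale.equivPiOfIsSepClosed L D
  rw [← LinearMap.ker_eq_bot, LinearMap.ker_eq_bot']
  intro x hx
  apply e.injective
  rw [map_zero]
  funext p
  have h := LinearMap.congr_fun hx (e.symm (Pi.single p 1))
  rw [Algebra.traceForm_apply, LinearMap.zero_apply, ← Algebra.trace_eq_of_algEquiv e, map_mul,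
    AlgEquiv.apply_symm_apply, trace_pi] at h
  simpa [Pi.single_apply] using h

theorem isUnit_discr_of_etale [Algebra.Etale A B] {ι : Type w} [Fintype ι] [DecidableEq ι]
    (b : Module.Basis ι A B) : IsUnit (Algebra.discr A b) := by
  by_contra hc
  obtain ⟨m, hm, hmem⟩ := exists_max_ideal_of_mem_nonunits hc
  letI : Field (A ⧸ m) := Ideal.Quotient.field m
  letI := uliftField.{u, v} (A ⧸ m)
  let L := AlgebraicClosure (ULift.{v} (A ⧸ m))
  haveI := Module.Finite.of_basis b
  have hinj : Function.Injective (Algebra.traceForm L (L ⊗[A] B)) := injective_traceForm_of_etale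
  let bL := Algebra.TensorProduct.basis L b
  haveI := Module.Finite.of_basis bL
  haveI := Module.Finite.of_basis bL.dualBasis
  have hbij : Function.Bijective (Algebra.traceForm L (L ⊗[A] B)) := by
    refine ⟨hinj, ?_⟩
    refine (LinearMap.injective_iff_surjective_of_finrank_eq_finrank ?_).1 hinj
    rw [Module.finrank_eq_card_basis bL, Module.finrank_eq_card_basis bL.dualBasis]
  have h := (bijective_iff_isUnit_discr bL).1 hbij
  rw [discr_baseChange, IsScalarTower.algebraMap_apply A (ULift.{v} (A ⧸ m)) L] at h
  rw [show algebraMap A (ULift.{v} (A ⧸ m)) (Algebra.discr A b) = 0 from ULift.ext _ _ (Ideal.Quotient.eq_zero_iff_mem.2 hmem), map_zero] at h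
  exact h.ne_zero rfl

theorem formallyUnramified_of_injective_traceForm {L : Type w} [Field L] [IsAlgClosed L]
    {D : Type w} [CommRing D] [Algebra L D] [Module.Finite L D]
    (h : Function.Injective (Algebra.traceForm L D)) : Algebra.FormallyUnramified L D := by
  classical
  haveI : IsReduced D := ⟨fun x hx => h <| by
    rw [map_zero]
    refine LinearMap.ext fun y => ?_
    rw [Algebra.traceForm_apply, LinearMap.zero_apply, Algebra.trace_apply]
    exact (LinearMap.isNilpotent_trace_of_isNilpotent
      (((Commute.all x y).isNilpotent_mul_right hx).map (Algebra.lmul L D))).eq_zero⟩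
  haveI : IsArtinianRing D := isArtinian_of_tower L inferInstance
  have : Algebra.FormallyEtale L D := by
    letI : ∀ m : MaximalSpectrum D, Field (D ⧸ m.asIdeal) := fun m => Ideal.Quotient.field m.asIdeal
    exact (Algebra.FormallyEtale.iff_exists_algEquiv_prod L D).2
      ⟨MaximalSpectrum D, inferInstance, fun m => D ⧸ m.asIdeal, inferInstance, inferInstance,
        (IsArtinianRing.equivPi D).restrictScalars L, fun m => inferInstance⟩
  infer_instance

theorem etale_of_isUnit_discr {ι : Type w}
    [Fintype ι] [DecidableEq ι] (b : Module.Basis ι A B) (h : IsUnit (Algebra.discr A b)) :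
    Algebra.Etale A B := by
  haveI := Module.Finite.of_basis b
  haveI := Module.Free.of_basis b
  haveI : Algebra.FormallyUnramified A B := by
    refine formallyUnramified_of_fibres fun p _ => ?_
    let K := p.ResidueField
    letI := uliftField.{u, v} K
    let L := AlgebraicClosure (ULift.{v} K)
    let bL := Algebra.TensorProduct.basis L b
    haveI : Algebra.FormallyUnramified L (L ⊗[A] B) := by
      refine formallyUnramified_of_injective_traceForm ((bijective_iff_isUnit_discr bL).2 ?_).1
      rw [discr_baseChange]
      exact h.map _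
    haveI : Algebra.FormallyUnramified L (L ⊗[K] (K ⊗[A] B)) :=
      Algebra.FormallyUnramified.of_equiv (Algebra.TensorProduct.cancelBaseChange A K L L B).symm
    exact Algebra.FormallyUnramified.of_formallyUnramified_tensorProduct_of_faithfullyFlat L
  haveI : Algebra.FinitePresentation A B := by
    haveI : Module.FinitePresentation A B := Module.finitePresentation_of_projective A B
    infer_instance
  exact Algebra.Etale.of_formallyUnramified_of_flat

theorem etale_iff_bijective
    [Module.Finite A B] [Module.Free A B] :
    Algebra.Etale A B ↔ Function.Bijective (Algebra.traceForm A B) := by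
  classical
  rw [bijective_iff_isUnit_discr (Module.Free.chooseBasis A B)]
  exact ⟨fun _ => isUnit_discr_of_etale _, etale_of_isUnit_discr _⟩

end Groth.Agent.TraceForm
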